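import Cfsg.Agent.GLBlocks.Basic

set_option autoImplicit false

/-!
Element orders of `PSL(3,q)`.
-/

namespace CfsgLib.GLBlocks

open Polynomial
open CfsgLib.ClassCount (Decomp IsItem Item size detD δ dataSet)

variable {F : Type*} [Field F]

theorem cases_size_three {D : Multiset (Item F)} (hD : ∀ it ∈ D, IsItem it) (hs : size D = 3) :
    (∃ P, P.natDegree = 3 ∧ D = {(P, 1)}) ∨ (∃ P, P.natDegree = 1 ∧ D = {(P, 3)}) ∨
      (∃ P Q, P.natDegree = 2 ∧ Q.natDegree = 1 ∧ D = (P, 1) ::ₘ {(Q, 1)}) ∨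
      (∃ P Q, P.natDegree = 1 ∧ Q.natDegree = 1 ∧ D = (P, 2) ::ₘ {(Q, 1)}) ∨
      ∀ it ∈ D, it.1.natDegree = 1 ∧ it.2 = 1 := by
  by_cases hall : ∀ it ∈ D, it.1.natDegree = 1 ∧ it.2 = 1
  · exact Or.inr (Or.inr (Or.inr (Or.inr hall)))
  push Not at hall
  obtain ⟨⟨P, e⟩, hit, hne⟩ := hall
  obtain ⟨D', rfl⟩ := Multiset.exists_cons_of_mem hit
  have h1 : 1 ≤ P.natDegree := (hD _ hit).deg_pos
  have h2 : 1 ≤ e := (hD _ hit).pos
  have hD' : ∀ it ∈ D', IsItem it := fun it h => hD it (Multiset.mem_cons_of_mem h)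
  rw [ClassCount.size_cons] at hs
  simp only at hs hne
  have hm1 : P.natDegree ≤ P.natDegree * e := Nat.le_mul_of_pos_right _ h2
  have hm2 : e ≤ P.natDegree * e := Nat.le_mul_of_pos_left _ h1
  have hP3 : P.natDegree ≤ 3 := by omega
  have he3 : e ≤ 3 := by omega
  have hcase : (P.natDegree = 3 ∧ e = 1 ∧ size D' = 0) ∨ (P.natDegree = 1 ∧ e = 3 ∧ size D' = 0) ∨
      (P.natDegree = 2 ∧ e = 1 ∧ size D' = 1) ∨ (P.natDegree = 1 ∧ e = 2 ∧ size D' = 1) := by
    generalize P.natDegree = a at *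
    interval_cases a <;> interval_cases e <;> omega
  have hone : size D' = 1 → ∃ Q : F[X], Q.natDegree = 1 ∧ D' = {(Q, 1)} := by
    intro h
    rcases Multiset.empty_or_exists_mem D' with rfl | ⟨⟨Q, f⟩, hQ⟩
    · simp [size] at h
    · obtain ⟨D'', rfl⟩ := Multiset.exists_cons_of_mem hQ
      rw [ClassCount.size_cons] at h
      have hQ1 : 1 ≤ Q.natDegree := (hD' _ hQ).deg_pos
      have hQ2 : 1 ≤ f := (hD' _ hQ).pos
      have h5 := Nat.mul_pos hQ1 hQ2
      simp only at h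
      have hf1 : Q.natDegree * f = 1 := by omega
      obtain ⟨hQd, rfl⟩ := mul_eq_one.1 hf1
      rw [ClassCount.eq_zero_of_size (fun it hi => hD' it (Multiset.mem_cons_of_mem hi)) (by omega)]
      exact ⟨Q, hQd, rfl⟩
  rcases hcase with ⟨a, rfl, c⟩ | ⟨a, rfl, c⟩ | ⟨a, rfl, c⟩ | ⟨a, rfl, c⟩
  · rw [ClassCount.eq_zero_of_size hD' c]; exact Or.inl ⟨P, a, rfl⟩
  · rw [ClassCount.eq_zero_of_size hD' c]; exact Or.inr (Or.inl ⟨P, a, rfl⟩)
  · obtain ⟨Q, hQ, rfl⟩ := hone c; exact Or.inr (Or.inr (Or.inl ⟨P, Q, a, hQ, rfl⟩))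
  · obtain ⟨Q, hQ, rfl⟩ := hone c; exact Or.inr (Or.inr (Or.inr (Or.inl ⟨P, Q, a, hQ, rfl⟩)))

theorem pow_eq_smul_of_data {n : ℕ} {g : Matrix (Fin n) (Fin n) F} (d : Decomp g) (N : ℕ) (c : F)
    (h : ∀ it ∈ d.data, it.1 ^ it.2 ∣ X ^ N - C c) : g ^ N = c • 1 :=
  (pow_eq_smul_iff d N c).2 fun i => h (d.P i, d.e i) (Multiset.mem_map.2 ⟨i, Finset.mem_univ i, rfl⟩)

theorem eq_X_sub_C_δ {P : F[X]} (hP : P.Monic) (h : P.natDegree = 1) : P = X - C (δ P) := by
  rw [hP.eq_X_add_C h]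
  simp [δ]

theorem dvd_X_pow_pow_of_le {p e T : ℕ} [Fact p.Prime] [CharP F p] (a : F) (M : ℕ) (he : e ≤ p ^ T) :
    (X - C a) ^ e ∣ X ^ (p ^ T * M) - C (a ^ (p ^ T * M)) := by
  refine (pow_dvd_pow _ he).trans ?_
  rw [sub_pow_char_pow (p := p) (R := F[X]), pow_mul (X : F[X]), C_pow, pow_mul (C a : F[X])]
  exact sub_dvd_pow_sub_pow ((X : F[X]) ^ p ^ T) (C a ^ p ^ T) M

variable [Fintype F]

theorem dvd_X_pow_geom_sub_δ {P : F[X]} (hP : Irreducible P) (hm : P.Monic) :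
    P ∣ X ^ LinearOrders.geomN (Fintype.card F) P.natDegree - C (δ P) := by
  haveI : Fact (Irreducible P) := ⟨hP⟩
  haveI : Module.Finite F (AdjoinRoot P) := ClassCount.finite_adjoinRoot hP.ne_zero
  haveI : Finite (AdjoinRoot P) := Module.finite_of_finite F
  have h1 := Algebra.PowerBasis.norm_gen_eq_coeff_zero_minpoly (AdjoinRoot.powerBasis hP.ne_zero)
  rw [AdjoinRoot.powerBasis_gen, AdjoinRoot.powerBasis_dim, AdjoinRoot.minpoly_root hP.ne_zero,
    hm.leadingCoeff, inv_one, map_one, mul_one] at h1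
  rw [← AdjoinRoot.mk_eq_zero, map_sub, map_pow, AdjoinRoot.mk_X, AdjoinRoot.mk_C, ← AdjoinRoot.algebraMap_eq,
    sub_eq_zero, δ, ← h1, FiniteField.algebraMap_norm_eq_pow, ClassCount.card_adjoinRoot hP.ne_zero,
    Nat.card_eq_fintype_card, LinearOrders.geomN, Nat.geomSum_eq Fintype.one_lt_card]

theorem three_mul_div (q : ℕ) : q - 1 ∣ 3 * ((q - 1) / Nat.gcd 3 (q - 1)) := by
  conv_lhs => rw [← Nat.mul_div_cancel' (Nat.gcd_dvd_right 3 (q - 1))]
  exact mul_dvd_mul_right (Nat.gcd_dvd_left _ _) _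

theorem sq_sub_one (q : ℕ) : q ^ 2 - 1 = (q + 1) * (q - 1) := by
  simpa using Nat.sq_sub_sq q 1

theorem bound_three (p : ℕ) [Fact p.Prime] [CharP F p] (g : GL (Fin 3) F)
    (hdet : Matrix.GeneralLinearGroup.det g = 1) :
    ∃ N c, (g : Matrix (Fin 3) (Fin 3) F) ^ N = (c : F) • 1 ∧
      (N = (Fintype.card F ^ 2 + Fintype.card F + 1) / Nat.gcd 3 (Fintype.card F - 1) ∨
        N = (Fintype.card F ^ 2 - 1) / Nat.gcd 3 (Fintype.card F - 1) ∨ N = Fintype.card F - 1 ∨
        N = p * (Fintype.card F - 1) / Nat.gcd 3 (Fintype.card F - 1) ∨ (p = 2 ∧ N = 4)) := by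
  set q := Fintype.card F with hq
  set d := Nat.gcd 3 (q - 1) with hd
  have hq1 : 1 < q := Fintype.one_lt_card
  have hdq : d ∣ q - 1 := Nat.gcd_dvd_right _ _
  have hM := three_mul_div q
  rw [← hd] at hM
  have hpd : p * (q - 1) / d = p * ((q - 1) / d) := Nat.mul_div_assoc _ hdq
  obtain ⟨dc⟩ := ClassCount.exists_decomp (g : Matrix (Fin 3) (Fin 3) F) (Matrix.GeneralLinearGroup.det_ne_zero g)
  have hdetD : detD dc.data = 1 := by rw [← dc.det_eq]; exact congrArg Units.val hdet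
  have hitems : ∀ it ∈ dc.data, IsItem it := fun it h => (dc.mem_data.1 it h).1
  rcases cases_size_three hitems dc.size_eq with ⟨P, hP, hD⟩ | ⟨P, hP, hD⟩ | ⟨P, Q, hP, hQ, hD⟩ |
      ⟨P, Q, hP, hQ, hD⟩ | hall
  · -- one cubic block
    have hIt : IsItem (P, 1) := hitems _ (by simp [hD])
    rw [hD] at hdetD
    simp only [detD, Multiset.map_singleton, Multiset.prod_singleton, pow_one] at hdetD
    haveI : Fact (Irreducible P) := ⟨hIt.irr⟩
    haveI : Module.Finite F (AdjoinRoot P) := ClassCount.finite_adjoinRoot hIt.irr.ne_zero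
    have h1 := dvd_X_pow_geom_sub_δ hIt.irr hIt.monic
    rw [hdetD, hP, ← AdjoinRoot.mk_eq_zero, map_sub, map_pow, AdjoinRoot.mk_X, C_1, map_one, sub_eq_zero] at h1
    have hG : LinearOrders.geomN q 3 = q ^ 2 + q + 1 := by
      simp [LinearOrders.geomN, Finset.sum_range_succ]; ring
    rw [← hq, hG] at h1
    have hdvd : q ^ 2 + q + 1 ∣ (q ^ 2 + q + 1) / d * (q - 1) := by
      have hdd : d ∣ q ^ 2 + q + 1 := by
        have h3 : d ∣ 3 := Nat.gcd_dvd_left _ _
        obtain ⟨r, hr⟩ : ∃ r, q = r + 1 := ⟨q - 1, by omega⟩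
        have : d ∣ r := by rwa [hr, Nat.add_sub_cancel] at hdq
        rw [hr, show (r + 1) ^ 2 + (r + 1) + 1 = r * (r + 3) + 3 by ring]
        exact dvd_add (this.mul_right _) h3
      conv_lhs => rw [← Nat.div_mul_cancel hdd]
      exact mul_dvd_mul_left _ hdq
    obtain ⟨m, hm⟩ := hdvd
    obtain ⟨c, hc⟩ := LinearOrders.exists_algebraMap_eq (F := F) (AdjoinRoot.root P ^ ((q ^ 2 + q + 1) / d)) (by
      rw [← hq]
      calc (AdjoinRoot.root P ^ ((q ^ 2 + q + 1) / d)) ^ q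
          = (AdjoinRoot.root P ^ ((q ^ 2 + q + 1) / d)) ^ (q - 1) * AdjoinRoot.root P ^ ((q ^ 2 + q + 1) / d) := by
            rw [← pow_succ, Nat.sub_add_cancel hq1.le]
        _ = _ := by rw [← pow_mul, hm, pow_mul, h1, one_pow, one_mul])
    refine ⟨_, c, pow_eq_smul_of_data dc _ c fun it hit => ?_, Or.inl rfl⟩
    rw [hD, Multiset.mem_singleton] at hit
    subst hit
    rw [pow_one, ← AdjoinRoot.mk_eq_zero, map_sub, map_pow, AdjoinRoot.mk_X, AdjoinRoot.mk_C,
      ← AdjoinRoot.algebraMap_eq, hc, sub_self]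
  · -- one Jordan block
    have hIt : IsItem (P, 3) := hitems _ (by simp [hD])
    have hPa : P = X - C (δ P) := eq_X_sub_C_δ hIt.monic hP
    by_cases hp2 : p = 2
    · refine ⟨p ^ 2 * 1, δ P ^ (p ^ 2 * 1), pow_eq_smul_of_data dc _ _ fun it hit => ?_,
        Or.inr (Or.inr (Or.inr (Or.inr ⟨hp2, by rw [hp2]; norm_num⟩)))⟩
      rw [hD, Multiset.mem_singleton] at hit
      subst hit
      show P ^ 3 ∣ _
      conv_lhs => rw [hPa]
      exact dvd_X_pow_pow_of_le _ _ (by rw [hp2]; norm_num)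
    · refine ⟨p ^ 1 * ((q - 1) / d), δ P ^ (p ^ 1 * ((q - 1) / d)), pow_eq_smul_of_data dc _ _ fun it hit => ?_,
        Or.inr (Or.inr (Or.inr (Or.inl (by rw [pow_one, hpd]))))⟩
      rw [hD, Multiset.mem_singleton] at hit
      subst hit
      show P ^ 3 ∣ _
      conv_lhs => rw [hPa]
      refine dvd_X_pow_pow_of_le _ _ ?_
      have := (Fact.out : p.Prime).two_le
      rw [pow_one]; omega
  · -- quadratic and linear
    have hItP : IsItem (P, 1) := hitems _ (by simp [hD])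
    have hItQ : IsItem (Q, 1) := hitems _ (by simp [hD])
    rw [hD] at hdetD
    simp only [detD, Multiset.map_cons, Multiset.map_singleton, Multiset.prod_cons, Multiset.prod_singleton,
      pow_one] at hdetD
    have hQa : Q = X - C (δ Q) := eq_X_sub_C_δ hItQ.monic hQ
    haveI : Fact (Irreducible P) := ⟨hItP.irr⟩
    have h1 := dvd_X_pow_geom_sub_δ hItP.irr hItP.monic
    rw [hP, ← AdjoinRoot.mk_eq_zero, map_sub, map_pow, AdjoinRoot.mk_X, AdjoinRoot.mk_C, sub_eq_zero,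
      show LinearOrders.geomN (Fintype.card F) 2 = q + 1 by simp [LinearOrders.geomN, Finset.sum_range_succ, hq]; ring] at h1
    have h2 := dvd_X_pow_card_sub_one hItP.irr hItP.coeff_ne
    rw [hP, ← hq, ← AdjoinRoot.mk_eq_zero, map_sub, map_pow, AdjoinRoot.mk_X, map_one, sub_eq_zero] at h2
    set B := (q ^ 2 - 1) / d with hB
    have hdq2 : d ∣ q + 2 := by
      have h3 : d ∣ 3 := Nat.gcd_dvd_left _ _
      rw [show q + 2 = (q - 1) + 3 by omega]
      exact dvd_add hdq h3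
    have hBdvd : q ^ 2 - 1 ∣ B * (q + 2) := by
      have : d ∣ q ^ 2 - 1 := by rw [sq_sub_one]; exact hdq.mul_left _
      conv_lhs => rw [← Nat.div_mul_cancel this]
      exact mul_dvd_mul_left _ hdq2
    obtain ⟨m, hm⟩ := hBdvd
    refine ⟨B, δ Q ^ B, pow_eq_smul_of_data dc _ _ fun it hit => ?_, Or.inr (Or.inl rfl)⟩
    rw [hD, Multiset.mem_cons, Multiset.mem_singleton] at hit
    rcases hit with rfl | rfl
    · rw [pow_one, ← AdjoinRoot.mk_eq_zero, map_sub, map_pow, AdjoinRoot.mk_X, AdjoinRoot.mk_C, map_pow, sub_eq_zero]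
      have h3 : AdjoinRoot.of P (δ Q) * AdjoinRoot.root P ^ (q + 1) = 1 := by
        rw [h1, ← map_mul, mul_comm, hdetD, map_one]
      have h4 : AdjoinRoot.root P ^ B * (AdjoinRoot.root P ^ (q + 1)) ^ B = 1 := by
        rw [← pow_mul, ← pow_add, show B + (q + 1) * B = B * (q + 2) by ring, hm, pow_mul, h2, one_pow]
      calc AdjoinRoot.root P ^ B
          = AdjoinRoot.root P ^ B * (AdjoinRoot.of P (δ Q) * AdjoinRoot.root P ^ (q + 1)) ^ B := by
            rw [h3, one_pow, mul_one]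
        _ = _ := by rw [mul_pow, mul_left_comm, h4, mul_one]
    · show Q ^ 1 ∣ _
      rw [pow_one]
      conv_lhs => rw [hQa]
      rw [C_pow]
      exact sub_dvd_pow_sub_pow _ _ _
  · -- Jordan block of size two and linear
    have hItP : IsItem (P, 2) := hitems _ (by simp [hD])
    have hItQ : IsItem (Q, 1) := hitems _ (by simp [hD])
    rw [hD] at hdetD
    simp only [detD, Multiset.map_cons, Multiset.map_singleton, Multiset.prod_cons, Multiset.prod_singleton,
      pow_one] at hdetD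
    have hPa : P = X - C (δ P) := eq_X_sub_C_δ hItP.monic hP
    have hQa : Q = X - C (δ Q) := eq_X_sub_C_δ hItQ.monic hQ
    refine ⟨p ^ 1 * ((q - 1) / d), δ P ^ (p ^ 1 * ((q - 1) / d)), pow_eq_smul_of_data dc _ _ fun it hit => ?_,
      Or.inr (Or.inr (Or.inr (Or.inl (by rw [pow_one, hpd]))))⟩
    rw [hD, Multiset.mem_cons, Multiset.mem_singleton] at hit
    rcases hit with rfl | rfl
    · show P ^ 2 ∣ _
      conv_lhs => rw [hPa]
      exact dvd_X_pow_pow_of_le _ _ (by rw [pow_one]; exact (Fact.out : p.Prime).two_le)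
    · show Q ^ 1 ∣ _
      rw [pow_one]
      conv_lhs => rw [hQa]
      set N := p ^ 1 * ((q - 1) / d)
      have heq : δ P ^ N = δ Q ^ N := by
        have hne : δ P ≠ 0 := by
          intro h0; rw [h0, zero_pow two_ne_zero, zero_mul] at hdetD; exact zero_ne_one hdetD
        obtain ⟨m, hm⟩ : q - 1 ∣ 3 * N := hM.trans (mul_dvd_mul_left 3 (dvd_mul_left _ _))
        have h3 : δ P ^ (3 * N) = 1 := by
          rw [hm, pow_mul, FiniteField.pow_card_sub_one_eq_one _ hne, one_pow]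
        calc δ P ^ N = δ P ^ N * (δ P ^ 2 * δ Q) ^ N := by rw [hdetD, one_pow, mul_one]
          _ = δ P ^ (3 * N) * δ Q ^ N := by rw [mul_pow, ← pow_mul, ← mul_assoc, ← pow_add]; congr 2; omega
          _ = _ := by rw [h3, one_mul]
      rw [heq, C_pow]
      exact sub_dvd_pow_sub_pow _ _ _
  · refine ⟨q - 1, 1, pow_eq_smul_of_data dc _ _ fun it hit => ?_, Or.inr (Or.inr (Or.inl rfl))⟩
    obtain ⟨h1, h2⟩ := hall it hit
    have := dvd_X_pow_card_sub_one (hitems it hit).irr (hitems it hit).coeff_ne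
    rw [h1, pow_one] at this
    rw [h2, pow_one, C_1]
    exact this

section Witness

open Matrix

/-- Scalar units. -/
def scalarGL (n : ℕ) : Fˣ →* GL (Fin n) F :=
  Units.map (algebraMap F (Matrix (Fin n) (Fin n) F)).toMonoidHom

omit [Fintype F] in
theorem scalarGL_coe (n : ℕ) (a : Fˣ) : (scalarGL n a : Matrix (Fin n) (Fin n) F) = (a : F) • 1 :=
  Algebra.algebraMap_eq_smul_one _

omit [Fintype F] in
theorem eq_of_smul_one {n : ℕ} [NeZero n] {a b : F} (h : a • (1 : Matrix (Fin n) (Fin n) F) = b • 1) : a = b := by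
  simpa using congrFun (congrFun h 0) 0

theorem exists_B : ∃ x : Matrix.ProjectiveSpecialLinearGroup (Fin 3) F,
    (Fintype.card F ^ 2 - 1) / Nat.gcd 3 (Fintype.card F - 1) ∣ orderOf x := by
  obtain ⟨p, hp⟩ := CharP.exists F
  obtain ⟨m, hpp, -⟩ := FiniteField.card F p
  haveI := Fact.mk hpp
  set q := Fintype.card F with hq
  have hq1 : 1 < q := Fintype.one_lt_card
  let K := FiniteField.Extension F p 2
  haveI : Finite K := Module.finite_of_finite F
  let b : Module.Basis (Fin 2) F K := Module.finBasisOfFinrankEq F K (FiniteField.finrank_extension F p 2)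
  obtain ⟨y, hy⟩ := IsCyclic.exists_ofOrder_eq_natCard (α := Kˣ)
  rw [Nat.card_units, FiniteField.natCard_extension, Nat.card_eq_fintype_card] at hy
  let u : Fˣ := Matrix.GeneralLinearGroup.det (LinearOrders.singerGL F b y)
  have hu : algebraMap F K (u : F) = (y : K) ^ (q + 1) := by
    show algebraMap F K (Algebra.leftMulMatrix b (y : K)).det = _
    rw [← Algebra.norm_eq_matrix_det b, FiniteField.algebraMap_norm_eq_pow, FiniteField.natCard_extension,
      Nat.card_eq_fintype_card, ← hq, sq_sub_one, Nat.mul_div_cancel _ (by omega)]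
  let G : GL (Fin 3) F := blockFin (show 2 + 1 = 3 from rfl) (LinearOrders.singerGL F b y, scalarGL 1 u⁻¹)
  have hG : Matrix.GeneralLinearGroup.det G = 1 := by
    rw [det_blockFin]
    apply Units.ext
    show (u : F) * (scalarGL 1 u⁻¹ : Matrix (Fin 1) (Fin 1) F).det = 1
    rw [scalarGL_coe, Matrix.det_smul, Matrix.det_one, Fintype.card_fin, pow_one, mul_one, Units.mul_inv]
  refine ⟨toPSL G hG, ?_⟩
  set o := orderOf (toPSL G hG)
  obtain ⟨c, hc⟩ := (toPSL_pow_eq_one_iff G hG o).1 (pow_orderOf_eq_one _)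
  rw [← Units.val_pow_eq_pow_val, ← map_pow] at hc
  obtain ⟨h1, h2⟩ := blockFin_scalar _ hc
  rw [Prod.pow_fst, ← map_pow] at h1
  rw [Prod.pow_snd, ← map_pow, scalarGL_coe] at h2
  have h3 : (y : K) ^ o = algebraMap F K c := by
    apply Algebra.leftMulMatrix_injective b
    rw [AlgHom.commutes, Algebra.algebraMap_eq_smul_one, ← h1, ← Units.val_pow_eq_pow_val]
    rfl
  have h4 : ((u⁻¹ ^ o : Fˣ) : F) = c := eq_of_smul_one h2
  have hA : y ^ (o * (q + 2)) = 1 := by
    apply Units.ext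
    rw [Units.val_pow_eq_pow_val, Units.val_one, show o * (q + 2) = o + (q + 1) * o by ring, pow_add, pow_mul,
      h3, ← hu, ← h4, ← map_pow, ← map_mul, ← Units.val_pow_eq_pow_val, ← Units.val_mul, ← mul_pow, inv_mul_cancel,
      one_pow, Units.val_one, map_one]
  have hB : y ^ (o * (q - 1)) = 1 := by
    apply Units.ext
    rw [Units.val_pow_eq_pow_val, Units.val_one, pow_mul, h3, ← h4, ← map_pow,
      FiniteField.pow_card_sub_one_eq_one _ (Units.ne_zero _), map_one]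
  have hA' := orderOf_dvd_of_pow_eq_one hA
  have hB' := orderOf_dvd_of_pow_eq_one hB
  rw [hy, sq_sub_one] at hA' hB'
  obtain ⟨j, hj⟩ : q + 1 ∣ o := (Nat.mul_dvd_mul_iff_right (by omega : 0 < q - 1)).1 hB'
  rw [hj, mul_assoc, Nat.mul_dvd_mul_iff_left (by omega : 0 < q + 1), show q + 2 = (q - 1) + 3 by omega,
    mul_add, Nat.dvd_add_right (dvd_mul_left _ _)] at hA'
  rw [sq_sub_one, Nat.mul_div_assoc _ (Nat.gcd_dvd_right 3 (q - 1)), hj]
  refine mul_dvd_mul_left _ ((Nat.coprime_div_gcd_div_gcd (m := 3) (n := q - 1)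
    (Nat.gcd_pos_of_pos_left _ (by norm_num))).symm.dvd_of_dvd_mul_right ?_)
  rw [← Nat.mul_div_assoc _ (Nat.gcd_dvd_left 3 (q - 1))]
  exact Nat.div_dvd_div (Nat.gcd_dvd_right _ _) hA'

theorem exists_q_sub_one : ∃ x : Matrix.ProjectiveSpecialLinearGroup (Fin 3) F,
    Fintype.card F - 1 ∣ orderOf x := by
  classical
  obtain ⟨a, ha⟩ := IsCyclic.exists_ofOrder_eq_natCard (α := Fˣ)
  rw [Nat.card_eq_fintype_card, Fintype.card_units] at ha
  let G : GL (Fin 3) F := blockFin (show 2 + 1 = 3 from rfl)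
    (blockFin (show 1 + 1 = 2 from rfl) (scalarGL 1 a, scalarGL 1 a⁻¹), 1)
  have hG : Matrix.GeneralLinearGroup.det G = 1 := by
    rw [det_blockFin, det_blockFin, map_one, mul_one]
    apply Units.ext
    show (scalarGL 1 a : Matrix (Fin 1) (Fin 1) F).det * (scalarGL 1 a⁻¹ : Matrix (Fin 1) (Fin 1) F).det = 1
    simp [scalarGL_coe]
  refine ⟨toPSL G hG, ?_⟩
  obtain ⟨c, hc⟩ := (toPSL_pow_eq_one_iff G hG _).1 (pow_orderOf_eq_one (toPSL G hG))
  rw [← Units.val_pow_eq_pow_val, ← map_pow] at hc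
  obtain ⟨h1, h2⟩ := blockFin_scalar _ hc
  rw [Prod.pow_fst, ← map_pow] at h1
  obtain ⟨h3, -⟩ := blockFin_scalar _ h1
  rw [Prod.pow_fst, ← map_pow, scalarGL_coe] at h3
  have hc1 : (1 : F) = c := eq_of_smul_one (n := 1) (by simpa [Prod.pow_snd] using h2)
  rw [← ha]
  exact orderOf_dvd_of_pow_eq_one (Units.ext ((eq_of_smul_one h3).trans hc1.symm))

theorem exists_GL_prime {p : ℕ} [Fact p.Prime] [CharP F p] :
    ∃ u : GL (Fin 2) F, orderOf u = p ∧ Matrix.GeneralLinearGroup.det u = 1 := by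
  have h : p ∣ Nat.card (GL (Fin 2) F) := by
    obtain ⟨k, hp, hk⟩ := FiniteField.card F p
    rw [Matrix.card_GL_field, Fin.prod_univ_two]
    refine Dvd.dvd.mul_left (Nat.dvd_sub ?_ ?_) _ <;>
      exact dvd_pow (by rw [hk]; exact dvd_pow_self p k.pos.ne') (by simp)
  obtain ⟨u, hu⟩ := exists_prime_orderOf_dvd_card' (G := GL (Fin 2) F) p h
  refine ⟨u, hu, ?_⟩
  have h1 : Matrix.GeneralLinearGroup.det u ^ p = 1 := by rw [← map_pow, ← hu, pow_orderOf_eq_one, map_one]
  apply Units.ext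
  have h2 := congrArg Units.val h1
  rw [Units.val_pow_eq_pow_val, Units.val_one] at h2
  rw [Units.val_one, ← sub_eq_zero]
  refine eq_zero_of_pow_eq_zero (n := p) ?_
  rw [sub_pow_char, one_pow, h2, sub_self]

omit [Fintype F] in
theorem scalar_eq_one {n p : ℕ} [Fact p.Prime] [CharP F p] [NeZero n] {u : GL (Fin n) F} {c : F}
    (hu : u ^ p = 1) (hc : (u : Matrix (Fin n) (Fin n) F) = c • 1) : u = 1 := by
  have h := congrArg (fun v : GL (Fin n) F => (v : Matrix (Fin n) (Fin n) F)) hu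
  simp only [Units.val_pow_eq_pow_val, hc, _root_.smul_pow, one_pow, Units.val_one] at h
  have h1 : c ^ p = 1 := eq_of_smul_one (n := n) (by rw [h, one_smul])
  have h2 : c = 1 := by
    rw [← sub_eq_zero]
    refine eq_zero_of_pow_eq_zero (n := p) ?_
    rw [sub_pow_char, one_pow, h1, sub_self]
  apply Units.ext
  rw [hc, h2, one_smul, Units.val_one]

/-- An element of order `p` in `PSL(3,q)` commuting with the images of the scalars of `GL(2,q)`. -/
theorem exists_mul_prime {p : ℕ} [Fact p.Prime] [CharP F p] (a : Fˣ) (N : ℕ) (hN : ¬ p ∣ N)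
    (h : ∀ o : ℕ, (a : F) ^ (3 * o) = 1 → N ∣ o) :
    ∃ x : Matrix.ProjectiveSpecialLinearGroup (Fin 3) F, p * N ∣ orderOf x := by
  classical
  obtain ⟨u, hu, hud⟩ := exists_GL_prime (F := F) (p := p)
  let V : GL (Fin 3) F := blockFin (show 2 + 1 = 3 from rfl) (u, 1)
  let T : GL (Fin 3) F := blockFin (show 2 + 1 = 3 from rfl) (scalarGL 2 a, scalarGL 1 (a⁻¹ ^ 2))
  have hV : Matrix.GeneralLinearGroup.det V = 1 := by rw [det_blockFin, hud, map_one, one_mul]
  have hT : Matrix.GeneralLinearGroup.det T = 1 := by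
    rw [det_blockFin]
    apply Units.ext
    show (scalarGL 2 a : Matrix (Fin 2) (Fin 2) F).det * (scalarGL 1 (a⁻¹ ^ 2) : Matrix (Fin 1) (Fin 1) F).det = 1
    rw [scalarGL_coe, scalarGL_coe, det_smul, det_smul, det_one, det_one, mul_one, mul_one, Fintype.card_fin,
      Fintype.card_fin, pow_one, ← Units.val_pow_eq_pow_val, ← Units.val_mul, ← mul_pow, mul_inv_cancel, one_pow,
      Units.val_one]
  have hcomm : Commute (toPSL V hV) (toPSL T hT) := by
    refine (QuotientGroup.mk_mul _ _ _).symm.trans (Eq.trans (congrArg _ (Subtype.ext ?_)) (QuotientGroup.mk_mul _ _ _))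
    show (V : Matrix (Fin 3) (Fin 3) F) * T = T * V
    rw [← Units.val_mul, ← Units.val_mul, ← map_mul, ← map_mul]
    congr 2
    refine Prod.ext (Units.ext ?_) (Units.ext ?_)
    · simp [scalarGL_coe]
    · simp
  have hoV : orderOf (toPSL V hV) = p := by
    refine orderOf_eq_prime ((toPSL_pow_eq_one_iff V hV p).2 ⟨1, ?_⟩) fun h1 => ?_
    · rw [one_smul, ← Units.val_pow_eq_pow_val, ← map_pow, show (u, (1 : GL (Fin 1) F)) ^ p = 1 from
        Prod.ext (show u ^ p = 1 by rw [← hu, pow_orderOf_eq_one]) (one_pow _), map_one, Units.val_one]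
    · rw [← pow_one (toPSL V hV), toPSL_pow_eq_one_iff] at h1
      obtain ⟨c, hc⟩ := h1
      rw [pow_one] at hc
      have h2 := scalar_eq_one (p := p) (u := u) (by rw [← hu, pow_orderOf_eq_one]) (blockFin_scalar _ hc).1
      rw [h2, orderOf_one] at hu
      exact (Fact.out : p.Prime).ne_one hu.symm
  have hoT : N ∣ orderOf (toPSL T hT) := by
    obtain ⟨c, hc⟩ := (toPSL_pow_eq_one_iff T hT _).1 (pow_orderOf_eq_one (toPSL T hT))
    rw [← Units.val_pow_eq_pow_val, ← map_pow] at hc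
    obtain ⟨h1, h2⟩ := blockFin_scalar _ hc
    rw [Prod.pow_fst, ← map_pow, scalarGL_coe] at h1
    rw [Prod.pow_snd, ← map_pow, scalarGL_coe] at h2
    have e := (eq_of_smul_one h1).trans (eq_of_smul_one h2).symm
    apply h
    have e2 : a ^ (3 * orderOf (toPSL T hT)) = 1 := by
      rw [Units.val_inj] at e
      rw [show 3 * orderOf (toPSL T hT) = orderOf (toPSL T hT) + 2 * orderOf (toPSL T hT) by ring, pow_add]
      nth_rewrite 1 [e]
      rw [← pow_mul, inv_pow, inv_mul_cancel]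
    rw [← Units.val_pow_eq_pow_val, e2, Units.val_one]
  refine ⟨toPSL V hV * (toPSL T hT) ^ (orderOf (toPSL T hT) / N), ?_⟩
  have hcop : p.Coprime N := (Fact.out : p.Prime).coprime_iff_not_dvd.2 hN
  have hN' := orderOf_pow_orderOf_div (orderOf_pos (toPSL T hT)).ne' hoT
  rw [(hcomm.pow_right _).orderOf_mul_eq_mul_orderOf_of_coprime (by rw [hoV, hN']; exact hcop), hoV, hN']

theorem range_orderOf_three (p : ℕ) [Fact p.Prime] [CharP F p] :
    Set.range (orderOf : Matrix.ProjectiveSpecialLinearGroup (Fin 3) F → ℕ) =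
      {m : ℕ | m ∣ (Fintype.card F ^ 2 + Fintype.card F + 1) / Nat.gcd 3 (Fintype.card F - 1) ∨
        m ∣ (Fintype.card F ^ 2 - 1) / Nat.gcd 3 (Fintype.card F - 1) ∨ m ∣ Fintype.card F - 1 ∨
        m ∣ p * (Fintype.card F - 1) / Nat.gcd 3 (Fintype.card F - 1) ∨ (p = 2 ∧ m ∣ 4)} := by
  set q := Fintype.card F with hq
  have hq1 : 1 < q := Fintype.one_lt_card
  ext m
  simp only [Set.mem_range, Set.mem_ofPred_eq]
  constructor
  · rintro ⟨x, rfl⟩
    obtain ⟨g, hg, rfl⟩ := exists_GL_pow_of_PSL x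
    obtain ⟨N, c, hc, hN⟩ := bound_three p g hg
    have hd : orderOf (toPSL g hg) ∣ N := orderOf_dvd_of_pow_eq_one ((toPSL_pow_eq_one_iff g hg N).2 ⟨c, hc⟩)
    rw [← hq] at hN
    rcases hN with rfl | rfl | rfl | rfl | ⟨h1, rfl⟩
    · exact Or.inl hd
    · exact Or.inr (Or.inl hd)
    · exact Or.inr (Or.inr (Or.inl hd))
    · exact Or.inr (Or.inr (Or.inr (Or.inl hd)))
    · exact Or.inr (Or.inr (Or.inr (Or.inr ⟨h1, hd⟩)))
  · intro h
    suffices hx : ∃ x : Matrix.ProjectiveSpecialLinearGroup (Fin 3) F, m ∣ orderOf x by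
      obtain ⟨x, hx⟩ := hx
      exact ⟨x ^ (orderOf x / m), orderOf_pow_orderOf_div (orderOf_pos x).ne' hx⟩
    rcases h with h | h | h | h | ⟨rfl, h⟩
    · obtain ⟨x, hx⟩ := LinearOrders.exists_singer (F := F) (n := 3) (by norm_num) (p := p)
      refine ⟨x, h.trans (dvd_trans (dvd_of_eq ?_) hx)⟩
      have hG : LinearOrders.geomN q 3 = q ^ 2 + q + 1 := by
        simp [LinearOrders.geomN, Finset.sum_range_succ]; ring
      rw [LinearOrders.singerM, ← hq, hG]
      congr 1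
      obtain ⟨r, hr⟩ : ∃ r, q = r + 1 := ⟨q - 1, by omega⟩
      rw [hr, Nat.add_sub_cancel, show (r + 1) ^ 2 + (r + 1) + 1 = 3 + (r + 3) * r by ring,
        Nat.gcd_add_mul_right_left]
    · obtain ⟨x, hx⟩ := exists_B (F := F)
      exact ⟨x, h.trans hx⟩
    · obtain ⟨x, hx⟩ := exists_q_sub_one (F := F)
      exact ⟨x, h.trans hx⟩
    · classical
      obtain ⟨a, ha⟩ := IsCyclic.exists_ofOrder_eq_natCard (α := Fˣ)
      rw [Nat.card_eq_fintype_card, Fintype.card_units, ← hq] at ha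
      obtain ⟨x, hx⟩ := exists_mul_prime (F := F) (p := p) a ((q - 1) / Nat.gcd 3 (q - 1)) (fun hp => by
        have h1 : p ∣ q - 1 := hp.trans (Nat.div_dvd_of_dvd (Nat.gcd_dvd_right _ _))
        obtain ⟨k, hpp, hk⟩ := FiniteField.card F p
        rw [← hq] at hk
        have h2 : p ∣ q := hk ▸ dvd_pow_self p k.pos.ne'
        have := Nat.dvd_sub h2 h1
        rw [show q - (q - 1) = 1 by omega] at this
        exact (Fact.out : p.Prime).not_dvd_one this) (fun o ho => by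
        have h1 : q - 1 ∣ 3 * o := by
          rw [← ha]
          exact orderOf_dvd_of_pow_eq_one (Units.ext (by rwa [Units.val_pow_eq_pow_val, Units.val_one]))
        refine (Nat.coprime_div_gcd_div_gcd (m := 3) (n := q - 1)
          (Nat.gcd_pos_of_pos_left _ (by norm_num))).symm.dvd_of_dvd_mul_left ?_
        rw [Nat.div_mul_right_comm (Nat.gcd_dvd_left 3 (q - 1))]
        exact Nat.div_dvd_div (Nat.gcd_dvd_right _ _) h1)
      exact ⟨x, h.trans (dvd_trans (dvd_of_eq (Nat.mul_div_assoc _ (Nat.gcd_dvd_right _ _))) hx)⟩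
    · obtain ⟨u, -, hu⟩ := LinearOrders.exists_unipotent (F := F) (p := 2) (T := 2) (m := 3) (n := 3)
        le_rfl (by norm_num) (fun _ => by norm_num)
      exact ⟨_, h.trans (by simpa using hu)⟩

end Witness

end CfsgLib.GLBlocks
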