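import Cfsg.Agent.ClassCount.Decomp
import Cfsg.Agent.Linear.Basic
import Cfsg.Agent.LinearOrders.Projective

set_option autoImplicit false

/-!
Element orders in `GL`, `SL`, `PSL` read off from the elementary-divisor blocks, and block-diagonal constructions.
-/

namespace CfsgLib.GLBlocks

open Polynomial
open CfsgLib.ClassCount (Decomp IsItem)

variable {F : Type*} [Field F]

section Blocks

variable {n : ℕ} {g : Matrix (Fin n) (Fin n) F}

theorem pow_eq_smul_iff (d : Decomp g) (N : ℕ) (c : F) :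
    g ^ N = c • 1 ↔ ∀ i, d.P i ^ d.e i ∣ X ^ N - C c := by
  have he : aeval g (X ^ N - C c) = g ^ N - c • 1 := by
    rw [map_sub, map_pow, aeval_X, aeval_C, Algebra.algebraMap_eq_smul_one]
  constructor
  · intro h i
    rw [← AdjoinRoot.mk_eq_zero]
    classical
    have h1 := ClassCount.map_aeval d (X ^ N - C c) (d.φ.symm (Pi.single i 1)) i
    rw [he, h, sub_self, Matrix.zero_mulVec, map_zero, LinearEquiv.apply_symm_apply, Pi.single_eq_same,
      mul_one, Pi.zero_apply] at h1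
    exact h1.symm
  · intro h
    rw [← sub_eq_zero, ← he]
    apply Matrix.ext_iff_mulVec.2
    intro v
    apply d.φ.injective
    rw [Matrix.zero_mulVec, map_zero]
    funext i
    rw [ClassCount.map_aeval d, AdjoinRoot.mk_eq_zero.2 (h i), zero_mul, Pi.zero_apply]

theorem pow_eq_one_iff (d : Decomp g) (N : ℕ) : g ^ N = 1 ↔ ∀ i, d.P i ^ d.e i ∣ X ^ N - 1 := by
  rw [← C_1, ← pow_eq_smul_iff d N 1, one_smul]

theorem sum_deg_le (d : Decomp g) (s : Finset (Fin d.k)) : ∑ i ∈ s, (d.P i).natDegree * d.e i ≤ n := by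
  have h := d.size_eq
  rw [ClassCount.size, Decomp.data, Multiset.map_map, ← Finset.sum_eq_multiset_sum] at h
  exact le_trans (Finset.sum_le_sum_of_subset (Finset.subset_univ s)) (le_of_eq h)

end Blocks

theorem exp_eq_one {P : F[X]} {e E : ℕ} (hP : IsItem (P, e)) (hE : (E : F) ≠ 0) (h : P ^ e ∣ X ^ E - 1) :
    e = 1 := by
  by_contra hne
  have := hP.pos
  have hsq : Squarefree ((X : F[X]) ^ E - 1) :=
    (X_pow_sub_one_separable_iff.2 hE).squarefree
  exact hP.irr.not_isUnit (hsq P ((dvd_trans (by rw [← sq]; exact pow_dvd_pow P (by simp only at this ⊢; omega)) h)))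

theorem dvd_X_pow_gcd {P : F[X]} {a b : ℕ} (ha : P ∣ X ^ a - 1) (hb : P ∣ X ^ b - 1) :
    P ∣ X ^ Nat.gcd a b - 1 := by
  have key : ∀ k, P ∣ X ^ k - 1 ↔ AdjoinRoot.root P ^ k = 1 := fun k => by
    rw [← AdjoinRoot.mk_eq_zero, map_sub, map_pow, AdjoinRoot.mk_X, map_one, sub_eq_zero]
  rw [key] at ha hb ⊢
  exact pow_gcd_eq_one.2 ⟨ha, hb⟩

theorem dvd_X_pow_of_dvd {P : F[X]} {a b : ℕ} (hab : a ∣ b) (ha : P ∣ X ^ a - 1) : P ∣ X ^ b - 1 := by
  obtain ⟨c, rfl⟩ := hab
  refine ha.trans ?_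
  rw [pow_mul]
  simpa using sub_dvd_pow_sub_pow ((X : F[X]) ^ a) 1 c

variable [Fintype F]

theorem dvd_X_pow_card_sub_one {P : F[X]} (hP : Irreducible P) (h0 : P.coeff 0 ≠ 0) :
    P ∣ X ^ (Fintype.card F ^ P.natDegree - 1) - 1 := by
  haveI : Fact (Irreducible P) := ⟨hP⟩
  haveI : Module.Finite F (AdjoinRoot P) := ClassCount.finite_adjoinRoot hP.ne_zero
  haveI : Finite (AdjoinRoot P) := Module.finite_of_finite F
  letI : Fintype (AdjoinRoot P) := Fintype.ofFinite _
  have hne : AdjoinRoot.root P ≠ 0 := by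
    intro h
    rw [← AdjoinRoot.mk_X, AdjoinRoot.mk_eq_zero] at h
    have hX : X ∣ P := (hP.associated_of_dvd irreducible_X h).symm.dvd
    exact h0 (X_dvd_iff.1 hX)
  have h1 := FiniteField.pow_card_sub_one_eq_one _ hne
  rw [← Nat.card_eq_fintype_card (α := AdjoinRoot P), ClassCount.card_adjoinRoot hP.ne_zero] at h1
  rw [← AdjoinRoot.mk_eq_zero, map_sub, map_pow, AdjoinRoot.mk_X, map_one, h1, sub_self]

theorem orderOf_cast_pos {p r : ℕ} [Fact p.Prime] [CharP F p] (hr : r.Prime) (hrp : r ≠ p) :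
    0 < orderOf ((Fintype.card F : ℕ) : ZMod r) := by
  haveI := Fact.mk hr
  refine orderOf_pos_iff.2 (isOfFinOrder_iff_pow_eq_one.2 ⟨r - 1, Nat.sub_pos_of_lt hr.one_lt, ?_⟩)
  refine ZMod.pow_card_sub_one_eq_one ?_
  rw [Ne, ZMod.natCast_eq_zero_iff]
  intro h
  obtain ⟨k, hp, hk⟩ := FiniteField.card F p
  rw [hk] at h
  exact hrp ((Nat.prime_dvd_prime_iff_eq hr hp).1 (hr.dvd_of_dvd_pow h))

theorem dvd_pow_sub_one_iff {p r : ℕ} [Fact p.Prime] [CharP F p] (hr : r.Prime) (m : ℕ) :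
    r ∣ Fintype.card F ^ m - 1 ↔ orderOf ((Fintype.card F : ℕ) : ZMod r) ∣ m := by
  rw [orderOf_dvd_iff_pow_eq_one, ← Nat.cast_pow, ← sub_eq_zero, ← Nat.cast_one (R := ZMod r),
    ← Nat.cast_sub (Nat.one_le_pow _ _ Fintype.card_pos), ZMod.natCast_eq_zero_iff]

/-- A block on which `X ^ r = 1` non-trivially has degree divisible by the order of `q` mod `r`. -/
theorem orderOf_dvd_natDegree {p r N : ℕ} [Fact p.Prime] [CharP F p] (hr : r.Prime) {P : F[X]}
    (hP : Irreducible P) (h0 : P.coeff 0 ≠ 0) (h : P ∣ X ^ (r * N) - 1) (hn : ¬ P ∣ X ^ N - 1) :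
    orderOf ((Fintype.card F : ℕ) : ZMod r) ∣ P.natDegree := by
  rw [← dvd_pow_sub_one_iff (p := p) hr]
  by_contra hc
  apply hn
  refine dvd_X_pow_of_dvd ?_ (dvd_X_pow_gcd h (dvd_X_pow_card_sub_one hP h0))
  exact ((hr.coprime_iff_not_dvd.2 hc).coprime_dvd_left (dvd_refl r)).gcd_mul_left_cancel N ▸ Nat.gcd_dvd_left _ _

section Constructions

open Matrix

variable {a b n : ℕ}

/-- Block-diagonal embedding. -/
def blockFin (h : a + b = n) : GL (Fin a) F × GL (Fin b) F →* GL (Fin n) F :=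
  (Linear.glReindex (finSumFinEquiv.trans (finCongr h))).toMonoidHom.comp
    { toFun := fun x => ⟨Matrix.fromBlocks x.1.1 0 0 x.2.1, Matrix.fromBlocks x.1⁻¹.1 0 0 x.2⁻¹.1,
        by simp [Matrix.fromBlocks_multiply],
        by simp [Matrix.fromBlocks_multiply]⟩
      map_one' := Units.ext (by simp)
      map_mul' := fun x y => Units.ext (by simp [Matrix.fromBlocks_multiply]) }

omit [Fintype F] in
theorem blockFin_coe (h : a + b = n) (x : GL (Fin a) F × GL (Fin b) F) :
    (blockFin h x : Matrix (Fin n) (Fin n) F) = Matrix.reindex (finSumFinEquiv.trans (finCongr h))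
      (finSumFinEquiv.trans (finCongr h)) (Matrix.fromBlocks x.1.1 0 0 x.2.1) := rfl

omit [Fintype F] in
theorem blockFin_injective (h : a + b = n) : Function.Injective (blockFin (F := F) h) := by
  intro x y e
  have e1 := congrArg (fun g : GL (Fin n) F => (g : Matrix (Fin n) (Fin n) F)) e
  simp only [blockFin_coe] at e1
  obtain ⟨h1, -, -, h2⟩ := Matrix.fromBlocks_inj.1 ((Matrix.reindex _ _).injective e1)
  exact Prod.ext (Units.ext h1) (Units.ext h2)

omit [Fintype F] in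
theorem det_blockFin (h : a + b = n) (x : GL (Fin a) F × GL (Fin b) F) :
    Matrix.GeneralLinearGroup.det (blockFin h x) =
      Matrix.GeneralLinearGroup.det x.1 * Matrix.GeneralLinearGroup.det x.2 := by
  apply Units.ext
  show (blockFin h x : Matrix (Fin n) (Fin n) F).det = x.1.1.det * x.2.1.det
  rw [blockFin_coe, Matrix.det_reindex_self, Matrix.det_fromBlocks_zero₂₁]

omit [Fintype F] in
theorem blockFin_scalar (h : a + b = n) {x : GL (Fin a) F × GL (Fin b) F} {c : F}
    (hx : (blockFin h x : Matrix (Fin n) (Fin n) F) = c • 1) :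
    (x.1 : Matrix (Fin a) (Fin a) F) = c • 1 ∧ (x.2 : Matrix (Fin b) (Fin b) F) = c • 1 := by
  rw [blockFin_coe] at hx
  have h2 : Matrix.fromBlocks x.1.1 0 0 x.2.1 =
      Matrix.fromBlocks (c • (1 : Matrix (Fin a) (Fin a) F)) 0 0 (c • (1 : Matrix (Fin b) (Fin b) F)) := by
    apply (Matrix.reindex (finSumFinEquiv.trans (finCongr h)) (finSumFinEquiv.trans (finCongr h))).injective
    have e : Matrix.fromBlocks (c • (1 : Matrix (Fin a) (Fin a) F)) 0 0 (c • (1 : Matrix (Fin b) (Fin b) F)) =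
        c • 1 := by rw [← fromBlocks_one, Matrix.fromBlocks_smul, smul_zero, smul_zero]
    rw [hx, e, Matrix.reindex_apply, Matrix.submatrix_smul]
    exact congrArg (c • ·) (Matrix.submatrix_one_equiv (finSumFinEquiv.trans (finCongr h)).symm).symm
  obtain ⟨h1, -, -, h3⟩ := Matrix.fromBlocks_inj.1 h2
  exact ⟨h1, h3⟩

/-- The element of `PSL` given by a determinant one element of `GL`. -/
def toPSL (g : GL (Fin n) F) (hg : Matrix.GeneralLinearGroup.det g = 1) :
    Matrix.ProjectiveSpecialLinearGroup (Fin n) F :=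
  QuotientGroup.mk (⟨(g : Matrix (Fin n) (Fin n) F), congrArg Units.val hg⟩ : Matrix.SpecialLinearGroup (Fin n) F)

omit [Fintype F] in
theorem toPSL_pow_eq_one_iff [NeZero n] (g : GL (Fin n) F) (hg : Matrix.GeneralLinearGroup.det g = 1) (k : ℕ) :
    toPSL g hg ^ k = 1 ↔ ∃ c : F, (g : Matrix (Fin n) (Fin n) F) ^ k = c • 1 :=
  LinearOrders.mk_pow_eq_one_iff _ k

omit [Fintype F] in
theorem exists_GL_pow_of_PSL [NeZero n] (x : Matrix.ProjectiveSpecialLinearGroup (Fin n) F) :
    ∃ (g : GL (Fin n) F) (hg : Matrix.GeneralLinearGroup.det g = 1), x = toPSL g hg := by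
  obtain ⟨s, rfl⟩ := QuotientGroup.mk_surjective x
  exact ⟨Matrix.SpecialLinearGroup.toGL s, Units.ext s.2, rfl⟩

/-- A lift of exact order. -/
theorem exists_GL_of_PSL_order [NeZero n] {x : Matrix.ProjectiveSpecialLinearGroup (Fin n) F} {N : ℕ}
    (hx : orderOf x = N) :
    ∃ h : GL (Fin n) F, Matrix.GeneralLinearGroup.det h = 1 ∧ orderOf h = N := by
  obtain ⟨s, rfl⟩ := QuotientGroup.mk_surjective x
  have hd : orderOf (QuotientGroup.mk s : Matrix.ProjectiveSpecialLinearGroup (Fin n) F) ∣ orderOf s :=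
    orderOf_map_dvd (QuotientGroup.mk' _) s
  rw [hx] at hd
  refine ⟨Matrix.SpecialLinearGroup.toGL (s ^ (orderOf s / N)), Units.ext (s ^ (orderOf s / N)).2, ?_⟩
  rw [orderOf_injective _ Matrix.SpecialLinearGroup.toGL_injective, orderOf_pow_orderOf_div (orderOf_pos s).ne' hd]

/-- Coprimality with `q - 1` keeps orders in `PSL` and forces determinant one. -/
theorem exists_PSL_of_coprime [NeZero n] {g : GL (Fin n) F} (hc : (orderOf g).Coprime (Fintype.card F - 1)) :
    ∃ x : Matrix.ProjectiveSpecialLinearGroup (Fin n) F, orderOf x = orderOf g := by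
  have hdet : Matrix.GeneralLinearGroup.det g = 1 := by
    rw [← pow_one (Matrix.GeneralLinearGroup.det g), ← hc]
    refine pow_gcd_eq_one.2 ⟨?_, ?_⟩
    · rw [← map_pow, pow_orderOf_eq_one, map_one]
    · classical
      rw [← Fintype.card_units, pow_card_eq_one]
  refine ⟨toPSL g hdet, Nat.dvd_antisymm (orderOf_dvd_of_pow_eq_one ((toPSL_pow_eq_one_iff g hdet _).2 ⟨1, ?_⟩)) ?_⟩
  · rw [one_smul, ← Units.val_pow_eq_pow_val, pow_orderOf_eq_one, Units.val_one]
  obtain ⟨c, hc'⟩ := (toPSL_pow_eq_one_iff g hdet _).1 (pow_orderOf_eq_one (toPSL g hdet))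
  have hc0 : c ≠ 0 := by
    intro h0
    rw [h0, zero_smul, ← Units.val_pow_eq_pow_val] at hc'
    exact (Units.ne_zero _) hc'
  refine hc.dvd_of_dvd_mul_right (orderOf_dvd_of_pow_eq_one (Units.ext ?_))
  rw [pow_mul, Units.val_pow_eq_pow_val, Units.val_pow_eq_pow_val, hc', _root_.smul_pow, one_pow,
    FiniteField.pow_card_sub_one_eq_one c hc0, one_smul, Units.val_one]

theorem exists_GL_orderOf {p : ℕ} [Fact p.Prime] [CharP F p] {d N : ℕ} (hd : 1 ≤ d)
    (hN : N ∣ Fintype.card F ^ d - 1) : ∃ g : GL (Fin d) F, orderOf g = N := by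
  haveI : NeZero d := ⟨by omega⟩
  let K := FiniteField.Extension F p d
  haveI : Finite K := Module.finite_of_finite F
  have hcard : Nat.card Kˣ = Fintype.card F ^ d - 1 := by
    rw [Nat.card_units, FiniteField.natCard_extension, Nat.card_eq_fintype_card]
  obtain ⟨y, hy⟩ := IsCyclic.exists_ofOrder_eq_natCard (α := Kˣ)
  refine ⟨LinearOrders.singerGL F (Module.finBasisOfFinrankEq F K (FiniteField.finrank_extension F p d))
    (y ^ (orderOf y / N)), ?_⟩
  rw [orderOf_injective _ (LinearOrders.singerGL_injective F _),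
    orderOf_pow_orderOf_div (orderOf_pos y).ne' (hy.symm ▸ hcard.symm ▸ hN)]

theorem orderOf_le_of_dvd_card [NeZero n] {p r : ℕ} [Fact p.Prime] [CharP F p] (hr : r.Prime) (hrp : r ≠ p)
    (h : r ∣ Nat.card (Matrix.ProjectiveSpecialLinearGroup (Fin n) F)) :
    orderOf ((Fintype.card F : ℕ) : ZMod r) ≤ n := by
  have h1 : r ∣ Nat.card (GL (Fin n) F) := by
    rw [← Linear.card_SL_mul, ← Linear.card_PSL_mul]
    exact (h.mul_left _).mul_left _
  rw [Matrix.card_GL_field, (hr.prime).dvd_finsetProd_iff] at h1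
  obtain ⟨i, -, hi⟩ := h1
  have hi2 := i.2
  rw [show Fintype.card F ^ n - Fintype.card F ^ (i : ℕ) =
      Fintype.card F ^ (i : ℕ) * (Fintype.card F ^ (n - i) - 1) by
    rw [Nat.mul_sub, ← pow_add, mul_one]; congr 2; omega, hr.dvd_mul] at hi
  rcases hi with hi | hi
  · obtain ⟨k, hp, hk⟩ := FiniteField.card F p
    rw [hk, ← pow_mul] at hi
    exact absurd ((Nat.prime_dvd_prime_iff_eq hr hp).1 (hr.dvd_of_dvd_pow hi)) hrp
  · exact (Nat.le_of_dvd (by omega) ((dvd_pow_sub_one_iff (p := p) hr _).1 hi)).trans (Nat.sub_le _ _)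

end Constructions

end CfsgLib.GLBlocks
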