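import Cfsg.Agent.GLBlocks.Three

set_option autoImplicit false

/-!
Elements of order `q ^ m + 1` in `PSL(2m,q)`, `q` odd.
-/

namespace CfsgLib.GLBlocks

open Polynomial
open CfsgLib.LinearOrders (geomN singerM)

theorem geomN_add (q a b : ℕ) : geomN q (a + b) = geomN q a + q ^ a * geomN q b := by
  rw [geomN, geomN, geomN, Finset.sum_range_add, Finset.mul_sum]
  simp [pow_add]

theorem geomN_eq_add_mul (q k : ℕ) (hq : 1 ≤ q) : ∃ c, geomN q k = k + (q - 1) * c := by
  induction k with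
  | zero => exact ⟨0, by simp [geomN]⟩
  | succ k ih =>
    obtain ⟨c, hc⟩ := ih
    obtain ⟨a, ha⟩ := Nat.sub_one_dvd_pow_sub_one q k
    refine ⟨c + a, ?_⟩
    have h1 : 1 ≤ q ^ k := Nat.one_le_pow _ _ hq
    rw [geomN, Finset.sum_range_succ, ← geomN, hc, mul_add]
    omega

theorem gcd_geomN (q k : ℕ) (hq : 1 ≤ q) : Nat.gcd (geomN q k) (q - 1) = Nat.gcd k (q - 1) := by
  obtain ⟨c, hc⟩ := geomN_eq_add_mul q k hq
  rw [hc, Nat.gcd_add_mul_left_left]

theorem dvd_half_iff {k m : ℕ} (hk : k ≠ 0) (hm : m ≠ 0) :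
    Nat.gcd (2 * m) k ∣ m ↔ padicValNat 2 k < padicValNat 2 (2 * m) := by
  haveI := Fact.mk Nat.prime_two
  rw [padicValNat.mul two_ne_zero hm, padicValNat.self one_lt_two, add_comm 1, Nat.lt_succ_iff]
  constructor
  · intro h
    by_contra hlt
    push Not at hlt
    have h1 : 2 ^ (padicValNat 2 m + 1) ∣ Nat.gcd (2 * m) k := by
      refine Nat.dvd_gcd ?_ ((padicValNat_dvd_iff_le hk).2 hlt)
      rw [pow_succ', Nat.mul_dvd_mul_iff_left two_pos]
      exact pow_padicValNat_dvd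
    exact pow_succ_padicValNat_not_dvd hm (h1.trans h)
  · intro h
    set d := Nat.gcd (2 * m) k with hd
    have hd0 : d ≠ 0 := (Nat.gcd_pos_of_pos_right _ (Nat.pos_of_ne_zero hk)).ne'
    obtain ⟨c, u, hu, hcu⟩ := Nat.exists_eq_pow_mul_and_not_dvd hd0 2 (by norm_num)
    rw [hcu]
    have hco : Nat.Coprime (2 ^ c) u := (Nat.prime_two.coprime_iff_not_dvd.2 hu).pow_left c
    refine hco.mul_dvd_of_dvd_of_dvd ?_ ?_
    · have h2 : 2 ^ c ∣ k := ((dvd_mul_right _ u).trans (dvd_of_eq hcu.symm)).trans (Nat.gcd_dvd_right _ _)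
      exact (pow_dvd_pow 2 (((padicValNat_dvd_iff_le hk).1 h2).trans h)).trans pow_padicValNat_dvd
    · have h2 : u ∣ 2 * m := ((dvd_mul_left u (2 ^ c)).trans (dvd_of_eq hcu.symm)).trans (Nat.gcd_dvd_left _ _)
      exact (Nat.prime_two.coprime_iff_not_dvd.2 hu).symm.dvd_of_dvd_mul_left h2

theorem gcd_lcm_left (a b c : ℕ) (ha : a ≠ 0) (hb : b ≠ 0) (hc : c ≠ 0) :
    Nat.gcd a (Nat.lcm b c) = Nat.lcm (Nat.gcd a b) (Nat.gcd a c) := by
  refine Nat.eq_of_factorization_eq ?_ ?_ fun p => ?_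
  · exact Nat.gcd_ne_zero_left ha
  · exact Nat.lcm_ne_zero (Nat.gcd_ne_zero_left ha) (Nat.gcd_ne_zero_left ha)
  · rw [Nat.factorization_gcd ha (Nat.lcm_ne_zero hb hc), Nat.factorization_lcm hb hc,
      Nat.factorization_lcm (Nat.gcd_ne_zero_left ha) (Nat.gcd_ne_zero_left ha),
      Nat.factorization_gcd ha hb, Nat.factorization_gcd ha hc]
    simp only [Finsupp.sup_apply, Finsupp.inf_apply]
    exact inf_sup_left _ _ _

theorem dvd_lcm_gcd {ι : Type*} (s : Finset ι) (f : ι → ℕ) {a : ℕ} (ha : a ≠ 0) (hf : ∀ i ∈ s, f i ≠ 0)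
    (h : a ∣ s.lcm f) : a ∣ s.lcm fun i => Nat.gcd a (f i) := by
  classical
  suffices hs : ∀ t : Finset ι, (∀ i ∈ t, f i ≠ 0) → Nat.gcd a (t.lcm f) = t.lcm fun i => Nat.gcd a (f i) by
    rw [← hs s hf, Nat.gcd_eq_left h]
  intro t
  induction t using Finset.induction with
  | empty => simp
  | insert i t hi ih =>
    intro hf'
    have hl : t.lcm f ≠ 0 := by
      rw [Ne, Finset.lcm_eq_zero_iff]
      rintro ⟨j, hj, hj0⟩
      exact hf' j (Finset.mem_insert_of_mem hj) hj0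
    rw [Finset.lcm_insert, Finset.lcm_insert, ← ih fun j hj => hf' j (Finset.mem_insert_of_mem hj)]
    exact gcd_lcm_left a _ _ ha (hf' i (Finset.mem_insert_self _ _)) hl

theorem exists_odd_quotient (x : ℤ) (j : ℕ) : ∃ c : ℤ, x ^ (2 * j + 1) + 1 = (x + 1) * (1 + (x - 1) * c) := by
  induction j with
  | zero => exact ⟨0, by ring⟩
  | succ j ih =>
    obtain ⟨c, hc⟩ := ih
    refine ⟨(x + 1) + x ^ 2 * c - 1, ?_⟩
    have e : x ^ (2 * (j + 1) + 1) = x ^ 2 * x ^ (2 * j + 1) := by rw [← pow_add]; ring_nf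
    linear_combination e + x ^ 2 * hc

theorem exists_gcd_dvd {q m d : ℕ} (hq : 2 ≤ q) (hm : 1 ≤ m) (hd : 1 ≤ d) (hnd : ¬ 2 * m ∣ d) :
    ∃ f, 2 * f ≤ d ∧ f < m ∧ Nat.gcd (q ^ m + 1) (q ^ d - 1) ∣ q ^ f + 1 := by
  set g := Nat.gcd (q ^ m + 1) (q ^ d - 1) with hg
  have hgd : g ∣ q ^ d - 1 := Nat.gcd_dvd_right _ _
  have hgm : g ∣ q ^ m + 1 := Nat.gcd_dvd_left _ _
  have hpm : 1 ≤ q ^ m := Nat.one_le_pow _ _ (by omega)
  have h2m : g ∣ q ^ (2 * m) - 1 := by
    refine hgm.trans ⟨q ^ m - 1, ?_⟩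
    rw [mul_comm 2 m, pow_mul]
    simpa using Nat.sq_sub_sq (q ^ m) 1
  have hgs : g ∣ q ^ Nat.gcd (2 * m) d - 1 := by
    rw [← Nat.pow_sub_one_gcd_pow_sub_one]
    exact Nat.dvd_gcd h2m hgd
  set s := Nat.gcd (2 * m) d with hs
  by_cases hsm : s ∣ m
  · refine ⟨0, by omega, hm, ?_⟩
    have h1 : g ∣ q ^ m - 1 := hgs.trans (Nat.pow_sub_one_dvd_pow_sub_one q hsm)
    have h2 := Nat.dvd_sub hgm h1
    rwa [show q ^ m + 1 - (q ^ m - 1) = 2 by omega] at h2
  · obtain ⟨f, hf⟩ : 2 ∣ s := by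
      by_contra h2
      exact hsm ((Nat.prime_two.coprime_iff_not_dvd.2 h2).symm.dvd_of_dvd_mul_left (Nat.gcd_dvd_left (2 * m) d))
    have hfm : f ∣ m := (Nat.mul_dvd_mul_iff_left two_pos).1 (hf ▸ Nat.gcd_dvd_left (2 * m) d)
    obtain ⟨t, ht⟩ := hfm
    obtain ⟨j, rfl⟩ : Odd t := by
      by_contra hev
      obtain ⟨u, rfl⟩ := Nat.not_odd_iff_even.1 hev
      exact hsm ⟨u, by rw [hf, ht]; ring⟩
    have hsd : s ≤ d := Nat.le_of_dvd hd (Nat.gcd_dvd_right _ _)
    refine ⟨f, by omega, ?_, ?_⟩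
    · rcases Nat.eq_zero_or_pos j with rfl | hj
      · exfalso
        apply hnd
        have h2 : s = 2 * m := by rw [hf, ht]; ring
        exact h2 ▸ Nat.gcd_dvd_right (2 * m) d
      · have h3 : f * 3 ≤ f * (2 * j + 1) := Nat.mul_le_mul_left f (by omega)
        omega
    · have hx : 1 ≤ q ^ f := Nat.one_le_pow _ _ (by omega)
      obtain ⟨c, hc⟩ := exists_odd_quotient (q ^ f : ℕ) j
      have hg1 : (g : ℤ) ∣ ((q ^ f : ℕ) + 1) * (1 + ((q ^ f : ℕ) - 1) * c) := by
        rw [← hc]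
        have := Int.natCast_dvd_natCast.2 hgm
        rw [ht, pow_mul] at this
        exact_mod_cast this
      have hg2 : (g : ℤ) ∣ ((q ^ f : ℕ) + 1) * ((q ^ f : ℕ) - 1) := by
        have h1 : g ∣ (q ^ f + 1) * (q ^ f - 1) := by
          have h4 : q ^ s - 1 = (q ^ f + 1) * (q ^ f - 1) := by
            rw [hf, mul_comm 2 f, pow_mul]
            simpa using Nat.sq_sub_sq (q ^ f) 1
          exact h4 ▸ hgs
        have := Int.natCast_dvd_natCast.2 h1
        rwa [Nat.cast_mul, Nat.cast_add, Nat.cast_sub hx, Nat.cast_one] at this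
      have h3 := dvd_sub hg1 (hg2.mul_right c)
      rw [show (((q ^ f : ℕ) : ℤ) + 1) * (1 + (((q ^ f : ℕ) : ℤ) - 1) * c) -
        (((q ^ f : ℕ) : ℤ) + 1) * (((q ^ f : ℕ) : ℤ) - 1) * c = ((q ^ f + 1 : ℕ) : ℤ) by push_cast; ring] at h3
      exact Int.natCast_dvd_natCast.1 h3

theorem exists_even_multiple {ι : Type*} {q : ℕ} (hq : 3 ≤ q) (hodd : Odd q) (f : ι → ℕ) (s : Finset ι) :
    ∃ M, 0 < M ∧ Even M ∧ (s.lcm fun i => q ^ f i + 1) ∣ M ∧ M ≤ q ^ (∑ i ∈ s, f i) + 1 ∧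
      (M = q ^ (∑ i ∈ s, f i) + 1 → ∑ i ∈ s, f i = 0 ∨ ∃ i ∈ s, f i = ∑ j ∈ s, f j) := by
  classical
  induction s using Finset.induction with
  | empty => exact ⟨2, two_pos, even_two, by simp, by simp, fun _ => Or.inl (by simp)⟩
  | insert a s ha ih =>
    obtain ⟨M, hM0, hMev, hMl, hMle, hMeq⟩ := ih
    rw [Finset.lcm_insert, Finset.sum_insert ha]
    have hev : Even (q ^ f a + 1) := (hodd.pow).add_odd odd_one
    rcases Nat.eq_zero_or_pos (f a) with hfa | hfa
    · refine ⟨M, hM0, hMev, ?_, by rwa [hfa, zero_add], ?_⟩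
      · rw [hfa, pow_zero]
        exact lcm_dvd (by obtain ⟨k, hk⟩ := hMev; exact ⟨k, by omega⟩) hMl
      · rw [hfa, zero_add]
        intro h
        rcases hMeq h with h1 | ⟨i, hi, h1⟩
        · exact Or.inl h1
        · exact Or.inr ⟨i, Finset.mem_insert_of_mem hi, h1⟩
    rcases Nat.eq_zero_or_pos (∑ i ∈ s, f i) with hS | hS
    · rw [hS, pow_zero] at hMle
      have hM2 : M = 2 := by obtain ⟨k, hk⟩ := hMev; omega
      refine ⟨q ^ f a + 1, Nat.succ_pos _, hev, ?_, by rw [hS, add_zero], fun _ => Or.inr ⟨a, Finset.mem_insert_self _ _, by rw [hS, add_zero]⟩⟩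
      obtain ⟨k, hk⟩ := hev
      exact lcm_dvd dvd_rfl (hMl.trans (hM2 ▸ ⟨k, by omega⟩))
    obtain ⟨k, hk⟩ := hev
    obtain ⟨l, hl⟩ := hMev
    have hkl : 2 * (k * l) < q ^ (f a + ∑ i ∈ s, f i) + 1 := by
      have hA : q ≤ q ^ f a := Nat.le_self_pow (by omega) q
      have hB : q ≤ q ^ (∑ i ∈ s, f i) := Nat.le_self_pow (by omega) q
      rw [pow_add]
      generalize q ^ f a = A at *
      generalize q ^ (∑ i ∈ s, f i) = B at *
      have h4 : 4 * (k * l) ≤ (A + 1) * (B + 1) := by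
        rw [show 4 * (k * l) = (k + k) * (l + l) by ring, ← hk, ← hl]
        exact Nat.mul_le_mul_left _ hMle
      nlinarith
    refine ⟨2 * (k * l), by rcases Nat.eq_zero_or_pos k with rfl | hk0; · omega
                            exact Nat.mul_pos two_pos (Nat.mul_pos hk0 (by omega)),
      even_two_mul _, lcm_dvd ⟨l, by rw [hk]; ring⟩ (hMl.trans ⟨k, by rw [hl]; ring⟩), hkl.le,
      fun h => absurd h hkl.ne⟩

variable {F : Type*} [Field F] [Fintype F]

theorem iff_orderOf_half (hodd : Odd (Fintype.card F)) {m : ℕ} (hm : 1 ≤ m) [NeZero (2 * m)] :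
    (∃ g : Matrix.ProjectiveSpecialLinearGroup (Fin (2 * m)) F, orderOf g = Fintype.card F ^ m + 1) ↔
      padicValNat 2 (Fintype.card F - 1) < padicValNat 2 (2 * m) := by
  classical
  obtain ⟨p, hchar⟩ := CharP.exists F
  obtain ⟨a, hp, hcard⟩ := FiniteField.card F p
  haveI := Fact.mk hp
  set q := Fintype.card F with hq
  have hq1 : 1 < q := Fintype.one_lt_card
  have hq3 : 3 ≤ q := by obtain ⟨k, hk⟩ := hodd; omega
  have hgeom : geomN q (2 * m) = (q ^ m + 1) * geomN q m := by rw [two_mul, geomN_add]; ring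
  have hd : Nat.gcd (geomN q (2 * m)) (q - 1) = Nat.gcd (2 * m) (q - 1) := gcd_geomN q _ (by omega)
  have hdpos : 0 < Nat.gcd (2 * m) (q - 1) := Nat.gcd_pos_of_pos_left _ (by omega)
  have hdm : Nat.gcd (2 * m) (q - 1) ∣ m ↔ Nat.gcd (2 * m) (q - 1) ∣ geomN q m := by
    obtain ⟨c, hc⟩ := geomN_eq_add_mul q m (by omega)
    rw [hc]
    exact (Nat.dvd_add_left ((Nat.gcd_dvd_right _ _).mul_right c)).symm
  rw [← dvd_half_iff (by omega) (by omega), hdm]
  constructor
  · rintro ⟨x, hx⟩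
    obtain ⟨g, hg, rfl⟩ := exists_GL_pow_of_PSL x
    have hdvdN : ∀ N (c : F), (g : Matrix (Fin (2 * m)) (Fin (2 * m)) F) ^ N = c • 1 → q ^ m + 1 ∣ N :=
      fun N c hc => hx ▸ orderOf_dvd_of_pow_eq_one ((toPSL_pow_eq_one_iff g hg N).2 ⟨c, hc⟩)
    obtain ⟨d⟩ := ClassCount.exists_decomp (g : Matrix (Fin (2 * m)) (Fin (2 * m)) F)
      (Matrix.GeneralLinearGroup.det_ne_zero g)
    obtain ⟨c, hc⟩ := (toPSL_pow_eq_one_iff g hg _).1 (pow_orderOf_eq_one (toPSL g hg))
    rw [hx] at hc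
    have hE : (g : Matrix (Fin (2 * m)) (Fin (2 * m)) F) ^ ((q ^ m + 1) * (q - 1)) = 1 := by
      have hc0 : c ≠ 0 := by
        intro h0
        rw [h0, zero_smul, ← Units.val_pow_eq_pow_val] at hc
        exact Units.ne_zero _ hc
      rw [pow_mul, hc, _root_.smul_pow, one_pow, hq, FiniteField.pow_card_sub_one_eq_one c hc0, one_smul]
    have hEp : (((q ^ m + 1) * (q - 1) : ℕ) : F) ≠ 0 := by
      rw [Ne, CharP.cast_eq_zero_iff F p]
      intro h
      have hpq : p ∣ q := hcard ▸ dvd_pow_self p a.pos.ne'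
      rcases hp.dvd_mul.1 h with h | h
      · exact hp.not_dvd_one ((Nat.dvd_add_right (dvd_pow hpq (by omega))).1 h)
      · have := Nat.dvd_sub hpq h
        rw [show q - (q - 1) = 1 by omega] at this
        exact hp.not_dvd_one this
    have hall := (pow_eq_one_iff d _).1 hE
    have he : ∀ i, d.e i = 1 := fun i => exp_eq_one (d.item i) hEp (hall i)
    have hdeg : ∀ i, 1 ≤ (d.P i).natDegree := fun i => (d.item i).irr.natDegree_pos
    have hL : q ^ m + 1 ∣ Finset.univ.lcm fun i => q ^ (d.P i).natDegree - 1 := by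
      refine hdvdN _ 1 ((pow_eq_smul_iff d _ 1).2 fun i => ?_)
      rw [he i, pow_one, C_1]
      exact dvd_X_pow_of_dvd (Finset.dvd_lcm (Finset.mem_univ i))
        (dvd_X_pow_card_sub_one (d.item i).irr (d.item i).coeff_ne)
    obtain ⟨i, hi⟩ : ∃ i, 2 * m ∣ (d.P i).natDegree := by
      by_contra hno
      push Not at hno
      choose f hf1 hf2 hf3 using fun i => exists_gcd_dvd (q := q) (by omega) hm (hdeg i) (hno i)
      obtain ⟨M, hM0, -, hMl, hMle, hMeq⟩ := exists_even_multiple hq3 hodd f Finset.univ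
      have hQM : q ^ m + 1 ≤ M := by
        refine Nat.le_of_dvd hM0 ((dvd_lcm_gcd _ _ (Nat.succ_ne_zero _) (fun i _ => ?_) hL).trans
          ((Finset.lcm_mono_fun fun i _ => hf3 i).trans hMl))
        have h1 := Nat.one_lt_pow (n := (d.P i).natDegree) (by have := hdeg i; omega) hq1
        omega
      have hsum : 2 * ∑ i, f i ≤ 2 * m := by
        rw [Finset.mul_sum]
        refine le_trans (Finset.sum_le_sum fun i _ => ?_) (sum_deg_le d Finset.univ)
        rw [he i, mul_one]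
        exact hf1 i
      have hpow := Nat.pow_le_pow_right (show 0 < q by omega) (show ∑ i, f i ≤ m by omega)
      have heq : ∑ i, f i = m := Nat.pow_right_injective (show 2 ≤ q by omega) (show q ^ (∑ i, f i) = q ^ m by omega)
      rcases hMeq (by rw [heq] at hMle ⊢; omega) with h | ⟨i, -, h⟩
      · omega
      · have := hf2 i
        omega
    have hn1 : (d.P i).natDegree = 2 * m := by
      have := Nat.le_of_dvd (hdeg i) hi
      have h2 : (d.P i).natDegree * d.e i ≤ 2 * m := by simpa using sum_deg_le d {i}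
      rw [he i, mul_one] at h2
      omega
    have honly : ∀ l, l = i := by
      intro l
      by_contra hl
      have h3 := sum_deg_le d {i, l}
      rw [Finset.sum_pair (Ne.symm hl), he i, he l, mul_one, mul_one, hn1] at h3
      have := hdeg l
      omega
    have hdetD : ClassCount.δ (d.P i) = 1 := by
      have h5 : ClassCount.detD d.data = 1 := by rw [← d.det_eq]; exact congrArg Units.val hg
      rw [ClassCount.detD, ClassCount.Decomp.data, Multiset.map_map, ← Finset.prod_eq_multiset_prod,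
        Finset.prod_eq_single i (fun b _ hb => absurd (honly b) hb) (by simp)] at h5
      simp only [Function.comp_apply] at h5
      rwa [he i, pow_one] at h5
    have h1 := dvd_X_pow_geom_sub_δ (d.item i).irr (d.item i).monic
    simp only at h1
    rw [hdetD, hn1, ← hq, C_1] at h1
    haveI : Fact (Irreducible (d.P i)) := ⟨(d.item i).irr⟩
    haveI : Module.Finite F (AdjoinRoot (d.P i)) := ClassCount.finite_adjoinRoot (d.item i).irr.ne_zero
    rw [← AdjoinRoot.mk_eq_zero, map_sub, map_pow, AdjoinRoot.mk_X, map_one, sub_eq_zero] at h1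
    obtain ⟨k, hk⟩ := LinearOrders.geomN_dvd_singerM_mul q (2 * m)
    obtain ⟨c', hc'⟩ := LinearOrders.exists_algebraMap_eq (F := F) (AdjoinRoot.root (d.P i) ^ singerM q (2 * m)) (by
      rw [← hq]
      calc (AdjoinRoot.root (d.P i) ^ singerM q (2 * m)) ^ q
          = (AdjoinRoot.root (d.P i) ^ singerM q (2 * m)) ^ (q - 1) * AdjoinRoot.root (d.P i) ^ singerM q (2 * m) := by
            rw [← pow_succ, Nat.sub_add_cancel hq1.le]
        _ = _ := by rw [← pow_mul, hk, pow_mul, h1, one_pow, one_mul])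
    have hfin := hdvdN (singerM q (2 * m)) c' ((pow_eq_smul_iff d _ c').2 fun l => by
      rw [honly l, he i, pow_one, ← AdjoinRoot.mk_eq_zero, map_sub, map_pow, AdjoinRoot.mk_X, AdjoinRoot.mk_C,
        ← AdjoinRoot.algebraMap_eq, hc', sub_self])
    rw [singerM, hd, hgeom] at hfin
    have hdd : Nat.gcd (2 * m) (q - 1) ∣ (q ^ m + 1) * geomN q m := by rw [← hgeom, ← hd]; exact Nat.gcd_dvd_left _ _
    rw [Nat.dvd_div_iff_mul_dvd hdd, mul_comm _ (q ^ m + 1)] at hfin
    exact (Nat.mul_dvd_mul_iff_left (Nat.succ_pos _)).1 hfin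
  · intro h
    obtain ⟨x, hx⟩ := LinearOrders.exists_singer (F := F) (n := 2 * m) (by omega) (p := p)
    have h1 : q ^ m + 1 ∣ orderOf x := by
      refine dvd_trans ?_ hx
      rw [singerM, ← hq, hd, hgeom, Nat.mul_div_assoc _ h]
      exact dvd_mul_right _ _
    exact ⟨x ^ (orderOf x / (q ^ m + 1)), orderOf_pow_orderOf_div (orderOf_pos x).ne' h1⟩

end CfsgLib.GLBlocks
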