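import Cfsg.Agent.GLBlocks.Three

set_option autoImplicit false

/-!
Elements of order `r p` in `PSL(n,q)`.
-/

namespace CfsgLib.GLBlocks

open Polynomial
open CfsgLib.ClassCount (Decomp IsItem Item)

variable {F : Type*} [Field F] [Fintype F] {n : ℕ} {p r : ℕ} [Fact p.Prime] [CharP F p]

theorem exists_semisimple (hr : r.Prime) (hr2 : r ≠ 2) {m : ℕ} (hm2 : 2 ≤ m)
    (hm : orderOf ((Fintype.card F : ℕ) : ZMod r) ≤ m) (hrp : r ≠ p) :
    ∃ t : GL (Fin m) F, orderOf t = r ∧ Matrix.GeneralLinearGroup.det t = 1 := by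
  classical
  have hk := orderOf_cast_pos (F := F) (p := p) hr hrp
  by_cases hrq : r ∣ Fintype.card F - 1
  · obtain ⟨w, hw⟩ : ∃ w : Fˣ, orderOf w = r :=
      haveI := Fact.mk hr
      exists_prime_orderOf_dvd_card' (G := Fˣ) r (by rw [Nat.card_units, Nat.card_eq_fintype_card]; exact hrq)
    refine ⟨blockFin (show 2 + (m - 2) = m by omega)
      (blockFin (show 1 + 1 = 2 from rfl) (scalarGL 1 w, scalarGL 1 w⁻¹), 1), ?_, ?_⟩
    · have hinj : Function.Injective (scalarGL (F := F) 1) := fun a b h => by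
        apply Units.ext
        apply eq_of_smul_one (n := 1)
        rw [← scalarGL_coe, ← scalarGL_coe, h]
      rw [orderOf_injective _ (blockFin_injective _), Prod.orderOf, orderOf_one, Nat.lcm_one_right,
        orderOf_injective _ (blockFin_injective _), Prod.orderOf, orderOf_injective _ hinj,
        orderOf_injective _ hinj, orderOf_inv, Nat.lcm_self, hw]
    · rw [det_blockFin, det_blockFin, map_one, mul_one]
      apply Units.ext
      show (scalarGL 1 w : Matrix (Fin 1) (Fin 1) F).det * (scalarGL 1 w⁻¹ : Matrix (Fin 1) (Fin 1) F).det = 1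
      simp [scalarGL_coe]
  · obtain ⟨a, ha⟩ := exists_GL_orderOf (F := F) (p := p) hk
      ((dvd_pow_sub_one_iff (p := p) hr _).2 dvd_rfl)
    refine ⟨blockFin (Nat.add_sub_cancel' hm) (a, 1), ?_, ?_⟩
    · rw [orderOf_injective _ (blockFin_injective _), Prod.orderOf, orderOf_one, Nat.lcm_one_right, ha]
    · rw [det_blockFin, map_one, mul_one, ← pow_one (Matrix.GeneralLinearGroup.det a),
        ← (hr.coprime_iff_not_dvd.2 hrq).gcd_eq_one]
      refine pow_gcd_eq_one.2 ⟨?_, ?_⟩
      · rw [← map_pow, orderOf_dvd_iff_pow_eq_one.1 (dvd_of_eq ha), map_one]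
      · rw [← Fintype.card_units, pow_card_eq_one]

theorem exists_mul_prime_of_four (hr : r.Prime) (hr2 : r ≠ 2) (hrp : r ≠ p) (hn : 4 ≤ n)
    (hk : orderOf ((Fintype.card F : ℕ) : ZMod r) ≤ n - 2) [NeZero n] :
    ∃ x : Matrix.ProjectiveSpecialLinearGroup (Fin n) F, orderOf x = r * p := by
  classical
  obtain ⟨u, hu, hud⟩ := exists_GL_prime (F := F) (p := p)
  obtain ⟨t, ht, htd⟩ := exists_semisimple (F := F) (p := p) hr hr2 (show 2 ≤ n - 2 by omega) hk hrp
  let G : GL (Fin n) F := blockFin (show 2 + (n - 2) = n by omega) (u, t)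
  have hdet : Matrix.GeneralLinearGroup.det G = 1 := by rw [det_blockFin, hud, htd, one_mul]
  have hoG : orderOf G = r * p := by
    rw [orderOf_injective _ (blockFin_injective _), Prod.orderOf, hu, ht,
      ((Nat.coprime_primes Fact.out hr).2 hrp.symm).lcm_eq_mul, mul_comm]
  refine ⟨toPSL G hdet, hoG ▸ Nat.dvd_antisymm
    (orderOf_dvd_of_pow_eq_one ((toPSL_pow_eq_one_iff G hdet _).2 ⟨1, by
      rw [one_smul, ← Units.val_pow_eq_pow_val, pow_orderOf_eq_one, Units.val_one]⟩)) ?_⟩
  set o := orderOf (toPSL G hdet)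
  obtain ⟨c, hc⟩ := (toPSL_pow_eq_one_iff G hdet o).1 (pow_orderOf_eq_one _)
  rw [← Units.val_pow_eq_pow_val, ← map_pow] at hc
  obtain ⟨h1, h2⟩ := blockFin_scalar _ hc
  rw [Prod.pow_fst] at h1
  rw [Prod.pow_snd] at h2
  have hu1 : u ^ o = 1 := scalar_eq_one (p := p) (by rw [← pow_mul, mul_comm, pow_mul, ← hu, pow_orderOf_eq_one, one_pow]) h1
  rw [hu1, Units.val_one] at h1
  have hc1 : (1 : F) = c := eq_of_smul_one (n := 2) (by rw [one_smul]; exact h1)
  apply orderOf_dvd_of_pow_eq_one
  show G ^ o = 1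
  rw [← map_pow, show (u, t) ^ o = 1 from Prod.ext hu1 (Units.ext (by
    show (↑((u, t).2 ^ o) : Matrix (Fin (n - 2)) (Fin (n - 2)) F) = 1
    rw [h2, ← hc1, one_smul])), map_one]

theorem bound_mul_prime (hr : r.Prime) (hr2 : r ≠ 2) (hrp : r ≠ p)
    {h : GL (Fin n) F} (hdet : Matrix.GeneralLinearGroup.det h = 1) (ho : orderOf h = r * p) :
    3 ≤ n ∧ orderOf ((Fintype.card F : ℕ) : ZMod r) ≤ n - 2 := by
  classical
  have hp : p.Prime := Fact.out
  obtain ⟨d⟩ := ClassCount.exists_decomp (h : Matrix (Fin n) (Fin n) F) (Matrix.GeneralLinearGroup.det_ne_zero h)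
  have hpow : ∀ N, (h : Matrix (Fin n) (Fin n) F) ^ N = 1 ↔ r * p ∣ N := fun N => by
    rw [← ho, orderOf_dvd_iff_pow_eq_one, Units.ext_iff, Units.val_pow_eq_pow_val, Units.val_one]
  have hall := (pow_eq_one_iff d (r * p)).1 ((hpow _).2 dvd_rfl)
  have hdvd : ∀ i, d.P i ∣ X ^ (r * p) - 1 := fun i =>
    (dvd_pow_self _ (Nat.one_le_iff_ne_zero.1 (d.item i).pos)).trans (hall i)
  obtain ⟨i, hi⟩ : ∃ i, 2 ≤ d.e i := by
    by_contra hc
    push Not at hc
    have h1 : ∀ i, d.P i ^ d.e i ∣ X ^ r - 1 := by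
      intro i
      have he : d.e i = 1 := by
        have := (d.item i).pos
        have := hc i
        omega
      rw [he, pow_one]
      have h2 := hdvd i
      rw [pow_mul, ← one_pow p, ← sub_pow_char] at h2
      exact (d.item i).irr.prime.dvd_of_dvd_pow h2
    have h2 : r * p ∣ r := (hpow r).1 ((pow_eq_one_iff d r).2 h1)
    have h3 := Nat.le_of_dvd hr.pos h2
    have := Nat.mul_le_mul_left r hp.two_le
    have := hr.pos
    omega
  obtain ⟨j, hj⟩ : ∃ j, ¬ d.P j ∣ X ^ p - 1 := by
    by_contra hc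
    push Not at hc
    have h1 : ∀ i, d.P i ^ d.e i ∣ X ^ p ^ n - 1 := by
      intro i
      have h2 := hc i
      rw [← one_pow p, ← sub_pow_char] at h2
      have h4 := (d.item i).irr.prime.dvd_of_dvd_pow h2
      have h5 : d.e i ≤ p ^ n := by
        have h6 : (d.P i).natDegree * d.e i ≤ n := by simpa using sum_deg_le d {i}
        have h7 : 1 ≤ (d.P i).natDegree := (d.item i).irr.natDegree_pos
        have h8 := Nat.mul_le_mul_right (d.e i) h7
        have := Nat.lt_pow_self (n := n) hp.one_lt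
        omega
      rw [← one_pow (p ^ n), ← sub_pow_char_pow]
      exact (pow_dvd_pow _ h5).trans (pow_dvd_pow_of_dvd h4 _)
    have h2 : r * p ∣ p ^ n := (hpow _).1 ((pow_eq_one_iff d _).2 h1)
    exact hrp ((Nat.prime_dvd_prime_iff_eq hr hp).1 (hr.dvd_of_dvd_pow ((dvd_mul_right r p).trans h2)))
  have hkj := orderOf_dvd_natDegree (p := p) (N := p) hr (d.item j).irr (d.item j).coeff_ne (hdvd j) hj
  have hdi : 1 ≤ (d.P i).natDegree := (d.item i).irr.natDegree_pos
  have hdj : 1 ≤ (d.P j).natDegree := (d.item j).irr.natDegree_pos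
  have hkle := Nat.le_of_dvd hdj hkj
  have hej : 1 ≤ d.e j := (d.item j).pos
  have h2i : 1 * 2 ≤ (d.P i).natDegree * d.e i := Nat.mul_le_mul hdi hi
  by_cases hij : i = j
  · subst hij
    have hn1 : (d.P i).natDegree * d.e i ≤ n := by simpa using sum_deg_le d {i}
    rcases Nat.lt_or_ge n 3 with hn | hn
    · -- a single Jordan block of size two
      exfalso
      have h1 : (d.P i).natDegree = 1 ∧ d.e i = 2 := by
        have h5 := Nat.mul_le_mul_left (d.P i).natDegree hi
        have h6 : d.e i ≤ (d.P i).natDegree * d.e i := Nat.le_mul_of_pos_left _ hdi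
        omega
      have hPa : d.P i = X - C (ClassCount.δ (d.P i)) := eq_X_sub_C_δ (d.item i).monic h1.1
      have honly : ∀ l, l = i := by
        intro l
        by_contra hl
        have h3 := sum_deg_le d {i, l}
        rw [Finset.sum_pair (Ne.symm hl)] at h3
        have h4 : 0 < (d.P l).natDegree * d.e l := Nat.mul_pos (d.item l).irr.natDegree_pos (d.item l).pos
        omega
      set a := ClassCount.δ (d.P i)
      have hdd : a ^ 2 = 1 := by
        have h5 : ClassCount.detD d.data = 1 := by rw [← d.det_eq]; exact congrArg Units.val hdet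
        rw [ClassCount.detD, Decomp.data, Multiset.map_map, ← Finset.prod_eq_multiset_prod,
          Finset.prod_eq_single i (fun b _ hb => absurd (honly b) hb) (by simp)] at h5
        simp only [Function.comp_apply] at h5
        rwa [h1.2] at h5
      have h6 : (h : Matrix (Fin n) (Fin n) F) ^ (p * 2) = 1 := by
        refine (pow_eq_one_iff d _).2 fun l => ?_
        rw [honly l, h1.2]
        conv_lhs => rw [hPa]
        have h7 := dvd_X_pow_pow_of_le (p := p) (e := 2) (T := 1) a 2 (by rw [pow_one]; exact hp.two_le)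
        rwa [pow_one, mul_comm p 2, pow_mul a, hdd, one_pow, C_1, mul_comm 2 p] at h7
      have h8 := (hpow _).1 h6
      rw [mul_comm r p] at h8
      exact hr2 ((Nat.prime_dvd_prime_iff_eq hr Nat.prime_two).1 ((Nat.mul_dvd_mul_iff_left hp.pos).1 h8))
    · refine ⟨hn, ?_⟩
      rcases Nat.lt_or_ge (orderOf ((Fintype.card F : ℕ) : ZMod r)) 2 with hk | hk
      · omega
      · have h5 := Nat.mul_le_mul_left (d.P i).natDegree hi
        omega
  · have hn1 := sum_deg_le d {i, j}
    rw [Finset.sum_pair hij] at hn1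
    have h3 : (d.P j).natDegree ≤ (d.P j).natDegree * d.e j := Nat.le_mul_of_pos_right _ hej
    omega

end CfsgLib.GLBlocks
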